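import Mathlib
import Groth.Prelude.Def_BlowUp2
import Groth.Prelude.Def_Rees

/-!
# The charts of `Proj` of the Rees algebra are the affine blow-up algebras
-/

set_option autoImplicit false
set_option linter.style.haveILetI false

universe u

open Polynomial HomogeneousLocalization

noncomputable section

namespace Groth.Agent.ReesProjLib

variable {A : Type u} [CommRing A] {R : Type u} [CommRing R] (ρ : A ≃+* R) (I : Ideal A) {a : A} (ha : a ∈ I)

/-- The element `a X` of the Rees algebra. -/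
def mono : reesAlgebra I := ⟨monomial 1 a, reesAlgebra.monomial_mem.2 (by rwa [pow_one])⟩

theorem mono_mem : mono I ha ∈ Rees.deg (reesAlgebra I) 1 := fun m hm => by
  show (monomial 1 a).coeff m = 0
  rw [coeff_monomial, if_neg (Ne.symm (show m ≠ 1 from hm))]

theorem eq_monomial {n : ℕ} {f : reesAlgebra I} (hf : f ∈ Rees.deg (reesAlgebra I) n) :
    (f : A[X]) = monomial n ((f : A[X]).coeff n) := by
  refine Polynomial.ext fun m => ?_
  rw [coeff_monomial]
  split_ifs with h
  · rw [h]
  · exact hf m (Ne.symm h)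

/-- Evaluation at `X = 1`, into the localization at `a`. -/
def ev : reesAlgebra I →+* Localization.Away (ρ a) :=
  (algebraMap R _).comp (ρ.toRingHom.comp ((Polynomial.evalRingHom 1).comp (reesAlgebra I).val.toRingHom))

theorem ev_of_mem {n : ℕ} {f : reesAlgebra I} (hf : f ∈ Rees.deg (reesAlgebra I) n) :
    ev ρ (a := a) I f = algebraMap R _ (ρ ((f : A[X]).coeff n)) := by
  show algebraMap R _ (ρ ((f : A[X]).eval 1)) = _
  conv_lhs => rw [eq_monomial I hf, eval_monomial, one_pow, mul_one]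

theorem ev_mono : ev ρ I (mono I ha) = algebraMap R (Localization.Away (ρ a)) (ρ a) := by
  rw [ev_of_mem ρ I (mono_mem I ha)]
  show algebraMap R _ (ρ ((monomial 1 a).coeff 1)) = _
  rw [coeff_monomial, if_pos rfl]

/-- The `n`-th power as an element of the submonoid of powers. -/
abbrev pw {S : Type u} [Monoid S] (c : S) (n : ℕ) : Submonoid.powers c := ⟨c ^ n, n, rfl⟩

theorem pw_zero {S : Type u} [CommMonoid S] (c : S) : pw c 0 = 1 := Subtype.ext (pow_zero _)

theorem isUnit_ev_mono : IsUnit (ev ρ (a := a) I (mono I ha)) := by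
  rw [ev_mono]
  exact IsLocalization.Away.algebraMap_isUnit _

/-- Extension of the evaluation to the localization at `a X`. -/
def lft : Localization.Away (mono I ha) →+* Localization.Away (ρ a) :=
  IsLocalization.Away.lift (mono I ha) (isUnit_ev_mono ρ I ha)

theorem lft_algebraMap (f : reesAlgebra I) : lft ρ I ha (algebraMap _ _ f) = ev ρ I f :=
  IsLocalization.Away.lift_eq (mono I ha) (isUnit_ev_mono ρ I ha) f

/-- The map from the degree zero localization at `a X` to the localization at `a`. -/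
def θ₀ : Away (Rees.deg (reesAlgebra I)) (mono I ha) →+* Localization.Away (ρ a) :=
  (lft ρ I ha).comp (algebraMap (Away (Rees.deg (reesAlgebra I)) (mono I ha)) (Localization.Away (mono I ha)))

theorem θ₀_mk (n : ℕ) (f : reesAlgebra I) (hf : f ∈ Rees.deg (reesAlgebra I) (n • 1)) :
    θ₀ ρ I ha (Away.mk _ (mono_mem I ha) n f hf) =
      IsLocalization.mk' (Localization.Away (ρ a)) (ρ ((f : A[X]).coeff n)) (pw (ρ a) n) := by
  rw [IsLocalization.eq_mk'_iff_mul_eq]
  have h : (Away.mk _ (mono_mem I ha) n f hf).val * algebraMap _ (Localization.Away (mono I ha)) (mono I ha ^ n) =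
      algebraMap _ _ f := by
    rw [Away.val_mk, Localization.mk_eq_mk']
    exact IsLocalization.mk'_spec (Localization.Away (mono I ha)) f (pw (mono I ha) n)
  have h2 := congrArg (lft ρ I ha) h
  rw [map_mul, lft_algebraMap, lft_algebraMap, map_pow, ev_mono, ← map_pow,
    ev_of_mem ρ I (show f ∈ Rees.deg (reesAlgebra I) n by simpa using hf)] at h2
  exact h2

theorem mk'_mem {n : ℕ} {x : A} (hx : x ∈ I ^ n) :
    IsLocalization.mk' (Localization.Away (ρ a)) (ρ x) (pw (ρ a) n) ∈
      BlowUp.affineAlgebra R (I.map ρ.toRingHom) (ρ a) := by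
  induction n generalizing x with
  | zero =>
    rw [pw_zero, IsLocalization.mk'_one]
    exact Subalgebra.algebraMap_mem _ _
  | succ n ih =>
    rw [pow_succ] at hx
    refine Submodule.mul_induction_on hx (fun y hy z hz => ?_) (fun y z hy hz => ?_)
    · have h : pw (ρ a) (n + 1) = pw (ρ a) n * ⟨ρ a, Submonoid.mem_powers _⟩ := Subtype.ext (pow_succ _ _)
      rw [h, map_mul ρ, IsLocalization.mk'_mul]
      exact mul_mem (ih hy) (Algebra.subset_adjoin ⟨ρ z, Ideal.mem_map_of_mem _ hz, rfl⟩)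
    · rw [map_add ρ, IsLocalization.mk'_eq_mul_mk'_one, map_add, add_mul, ← IsLocalization.mk'_eq_mul_mk'_one, ← IsLocalization.mk'_eq_mul_mk'_one]
      exact add_mem hy hz

theorem θ₀_mem (z : Away (Rees.deg (reesAlgebra I)) (mono I ha)) :
    θ₀ ρ I ha z ∈ BlowUp.affineAlgebra R (I.map ρ.toRingHom) (ρ a) := by
  obtain ⟨n, f, hf, rfl⟩ := Away.mk_surjective _ (mono_mem I ha) z
  rw [θ₀_mk]
  refine mk'_mem ρ I ?_
  exact (mem_reesAlgebra_iff I _).1 f.2 n

/-- The chart map. -/
def θ : Away (Rees.deg (reesAlgebra I)) (mono I ha) →+* BlowUp.affineAlgebra R (I.map ρ.toRingHom) (ρ a) :=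
  (θ₀ ρ I ha).codRestrict _ (θ₀_mem ρ I ha)

theorem θ_injective : Function.Injective (θ ρ I ha) := by
  refine (injective_iff_map_eq_zero _).2 fun z hz => ?_
  obtain ⟨n, f, hf, rfl⟩ := Away.mk_surjective _ (mono_mem I ha) z
  have hz' : θ₀ ρ I ha (Away.mk _ (mono_mem I ha) n f hf) = 0 := congrArg Subtype.val hz
  rw [θ₀_mk, IsLocalization.mk'_eq_zero_iff] at hz'
  obtain ⟨⟨_, m, rfl⟩, hm⟩ := hz'
  have hm' : a ^ m * (f : A[X]).coeff n = 0 := ρ.injective (by rw [map_mul, map_pow, map_zero]; exact hm)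
  apply HomogeneousLocalization.val_injective
  rw [HomogeneousLocalization.val_zero, Away.val_mk, Localization.mk_eq_mk', IsLocalization.mk'_eq_zero_iff]
  refine ⟨⟨mono I ha ^ m, m, rfl⟩, Subtype.ext ?_⟩
  rw [MulMemClass.coe_mul, SubmonoidClass.coe_pow, eq_monomial I (show f ∈ Rees.deg (reesAlgebra I) n by simpa using hf)]
  show monomial 1 a ^ m * monomial n _ = 0
  rw [monomial_pow, monomial_mul_monomial, hm', map_zero]

/-- Elements of `A` in the Rees algebra, in degree zero, as fractions. -/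
theorem θ_fromZero (x : A) :
    θ ρ I ha (fromZeroRingHom (Rees.deg (reesAlgebra I)) _ (algebraMap A (Rees.deg (reesAlgebra I) 0) x)) =
      algebraMap R _ (ρ x) := by
  apply Subtype.ext
  show θ₀ ρ I ha _ = algebraMap R (Localization.Away (ρ a)) (ρ x)
  have h : fromZeroRingHom (Rees.deg (reesAlgebra I)) (Submonoid.powers (mono I ha))
      (algebraMap A (Rees.deg (reesAlgebra I) 0) x) =
      Away.mk _ (mono_mem I ha) 0 (algebraMap A (reesAlgebra I) x)
        (by rw [zero_smul]; exact (algebraMap A (Rees.deg (reesAlgebra I) 0) x).2) := by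
    apply HomogeneousLocalization.val_injective
    rw [Away.val_mk]
    show Localization.mk _ _ = Localization.mk _ _
    congr 1
  rw [h, θ₀_mk, pw_zero, IsLocalization.mk'_one]
  congr 2
  exact coeff_C_zero

theorem θ_frac {x : A} (hx : x ∈ I) :
    (θ ρ I ha (Away.mk _ (mono_mem I ha) 1 (mono I hx) (by rw [one_smul]; exact mono_mem I hx))).1 =
      IsLocalization.mk' (Localization.Away (ρ a)) (ρ x) ⟨ρ a, Submonoid.mem_powers _⟩ := by
  show θ₀ ρ I ha _ = _
  rw [θ₀_mk]
  have h1 : pw (ρ a) 1 = ⟨ρ a, Submonoid.mem_powers _⟩ := Subtype.ext (pow_one _)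
  rw [h1]
  congr 2
  show (monomial 1 x).coeff 1 = x
  rw [coeff_monomial, if_pos rfl]

theorem θ_surjective : Function.Surjective (θ ρ I ha) := by
  rintro ⟨z, hz⟩
  induction hz using Algebra.adjoin_induction with
  | mem y hy =>
    obtain ⟨w, hw, rfl⟩ := hy
    obtain ⟨x, hx, rfl⟩ := (Ideal.mem_map_iff_of_surjective ρ.toRingHom ρ.surjective).1 hw
    exact ⟨_, Subtype.ext (θ_frac ρ I ha hx)⟩
  | algebraMap r =>
    obtain ⟨x, rfl⟩ := ρ.surjective r
    exact ⟨_, θ_fromZero ρ I ha x⟩
  | add x y hx hy h₁ h₂ =>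
    obtain ⟨p, hp⟩ := h₁
    obtain ⟨q, hq⟩ := h₂
    exact ⟨p + q, by rw [map_add, hp, hq]; rfl⟩
  | mul x y hx hy h₁ h₂ =>
    obtain ⟨p, hp⟩ := h₁
    obtain ⟨q, hq⟩ := h₂
    exact ⟨p * q, by rw [map_mul, hp, hq]; rfl⟩

/-- The chart isomorphism. -/
def chartEquiv : Away (Rees.deg (reesAlgebra I)) (mono I ha) ≃+* BlowUp.affineAlgebra R (I.map ρ.toRingHom) (ρ a) :=
  RingEquiv.ofBijective (θ ρ I ha) ⟨θ_injective ρ I ha, θ_surjective ρ I ha⟩

theorem irrelevant_le : (HomogeneousIdeal.irrelevant (Rees.deg (reesAlgebra I))).toIdeal ≤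
    Ideal.span (Set.range fun x : I => mono I x.2) := by
  classical
  intro f hf
  rw [← DirectSum.sum_support_decompose (Rees.deg (reesAlgebra I)) f]
  refine Ideal.sum_mem _ fun n hn => ?_
  rcases n with _ | n
  · have h0 : GradedRing.proj (Rees.deg (reesAlgebra I)) 0 f = 0 := (HomogeneousIdeal.mem_irrelevant_iff _ _).1 hf
    rw [GradedRing.proj_apply] at h0
    rw [h0]
    exact Submodule.zero_mem _
  · set g := (DirectSum.decompose (Rees.deg (reesAlgebra I)) f (n + 1) : reesAlgebra I) with hg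
    have hgm : g ∈ Rees.deg (reesAlgebra I) (n + 1) := SetLike.coe_mem _
    suffices h : ∀ x ∈ I ^ n * I, ∃ e ∈ Ideal.span (Set.range fun x : I => mono I x.2), (e : A[X]) = monomial (n + 1) x by
      obtain ⟨e, he, hee⟩ := h ((g : A[X]).coeff (n + 1)) (by rw [← pow_succ]; exact (mem_reesAlgebra_iff I _).1 g.2 (n + 1))
      rwa [show g = e from Subtype.ext ((eq_monomial I hgm).trans hee.symm)]
    intro x hx
    refine Submodule.mul_induction_on hx (fun y hy z hz => ?_) (fun y z hy hz => ?_)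
    · refine ⟨⟨monomial n y, reesAlgebra.monomial_mem.2 hy⟩ * mono I hz,
        Ideal.mul_mem_left _ _ (Ideal.subset_span ⟨⟨z, hz⟩, rfl⟩), ?_⟩
      show monomial n y * monomial 1 z = _
      rw [monomial_mul_monomial]
    · obtain ⟨e, he, hee⟩ := hy
      obtain ⟨e', he', hee'⟩ := hz
      exact ⟨e + e', add_mem he he', by rw [AddMemClass.coe_add, hee, hee', map_add]⟩

end Groth.Agent.ReesProjLib
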