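import Groth.Agent.ReesProjLib.Chart
import Groth.Agent.BlowExistsLib.Proper
import Groth.Agent.BlowExistsLib.Glue
import Groth.Prelude.Def_ega3

/-!
# `Proj` of the Rees algebra is the blowing up
-/

set_option autoImplicit false
set_option backward.isDefEq.respectTransparency false
set_option backward.isDefEq.respectTransparency.types false
set_option backward.defeqAttrib.useBackward true
set_option linter.style.haveILetI false

universe u

open CategoryTheory AlgebraicGeometry HomogeneousLocalization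
open Groth.Agent.BlowChartLib Groth.Agent.BlowExistsLib

noncomputable section

namespace Groth.Agent.ReesProjLib

theorem exists_equiv {A : Type u} [CommRing A] {R : Type u} [CommRing R] (ρ : A ≃+* R) (I : Ideal A)
    (J : Ideal R) (hJ : J = I.map ρ.toRingHom) {a : A} (ha : a ∈ I) :
    ∃ φ : Away (Rees.deg (reesAlgebra I)) (mono I ha) →+* BlowUp.affineAlgebra R J (ρ a), Function.Bijective φ ∧
      (∀ x, φ (fromZeroRingHom (Rees.deg (reesAlgebra I)) _ (algebraMap A (Rees.deg (reesAlgebra I) 0) x)) =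
        algebraMap R _ (ρ x)) ∧
      ∀ c (hc : c ∈ I) (hc' : ρ c ∈ J),
        φ (Away.isLocalizationElem (mono_mem I ha) (mono_mem I hc)) = frac (ρ c) hc' := by
  subst hJ
  refine ⟨θ ρ I ha, ⟨θ_injective ρ I ha, θ_surjective ρ I ha⟩, θ_fromZero ρ I ha, fun c hc hc' => Subtype.ext ?_⟩
  have h : Away.isLocalizationElem (mono_mem I ha) (mono_mem I hc) =
      Away.mk _ (mono_mem I ha) 1 (mono I hc) (by rw [one_smul]; exact mono_mem I hc) := by
    apply HomogeneousLocalization.val_injective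
    rw [Away.val_mk, Away.val_mk, pow_one (mono I hc)]
  rw [h]
  exact θ_frac ρ I ha hc

variable {A : Type u} [CommRing A] (I : Ideal A)

/-- The centre. -/
abbrev centre : (Spec (CommRingCat.of A)).IdealSheafData :=
  Scheme.IdealSheafData.ofIdealTop (I.map (Scheme.ΓSpecIso (CommRingCat.of A)).inv.hom)

/-- The total affine open. -/
abbrev topU : (Spec (CommRingCat.of A)).affineOpens := ⟨⊤, isAffineOpen_top _⟩

/-- The identification of `A` with the global sections. -/
abbrev rho : A ≃+* Γ(Spec (CommRingCat.of A), ⊤) :=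
  (Scheme.ΓSpecIso (CommRingCat.of A)).symm.commRingCatIsoToRingEquiv

theorem ideal_topU : (centre I).ideal (topU (A := A)) = I.map (rho (A := A)).toRingHom := by
  show Ideal.map _ (Ideal.map _ I) = _
  rw [Ideal.map_map]
  congr 1

theorem rho_mem {a : A} (ha : a ∈ I) : rho a ∈ (centre I).ideal (topU (A := A)) := by
  rw [ideal_topU]
  exact Ideal.mem_map_of_mem _ ha

/-- The structure morphism. -/
abbrev str : Proj (Rees.deg (reesAlgebra I)) ⟶ Spec (CommRingCat.of A) :=
  Proj (Rees.deg (reesAlgebra I)) ↘ Spec (CommRingCat.of A)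

theorem exists_chart {a : A} (ha : a ∈ I) :
    ∃ (e : Spec (CommRingCat.of (ChartAlg (centre I) topU (rho a))) ⟶ Proj (Rees.deg (reesAlgebra I)))
      (_ : IsOpenImmersion e), e.opensRange = Proj.basicOpen _ (mono I ha) ∧
      e ≫ str I = chartMap (centre I) topU (rho a) ∧
      ∀ c (hc : c ∈ I), e ⁻¹ᵁ Proj.basicOpen _ (mono I hc) =
        PrimeSpectrum.basicOpen (frac (rho c) (rho_mem I hc) : ChartAlg (centre I) topU (rho a)) := by
  obtain ⟨φ, hφb, hφ0, hφ1⟩ := exists_equiv rho I _ (ideal_topU I) ha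
  let s := CommRingCat.ofHom φ
  haveI : IsIso s := (ConcreteCategory.isIso_iff_bijective s).2 hφb
  refine ⟨Spec.map s ≫ Proj.awayι _ (mono I ha) (mono_mem I ha) one_pos, inferInstance, ?_, ?_, fun c hc => ?_⟩
  · rw [Scheme.Hom.opensRange_comp_of_isIso, Proj.opensRange_awayι]
  · show (_ ≫ _) ≫ Proj.toSpecZero _ ≫ Spec.map _ = _
    rw [Category.assoc, Proj.awayι_toSpecZero_assoc, ← Spec.map_comp, ← Spec.map_comp, chartMap,
      IsAffineOpen.fromSpec_top, Scheme.isoSpec_Spec_inv, ← Spec.map_comp]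
    congr 1
    exact CommRingCat.hom_ext (RingHom.ext fun x => hφ0 x)
  · rw [Scheme.Hom.comp_preimage, Proj.awayι_preimage_basicOpen _ (mono_mem I ha) one_pos (mono_mem I hc) one_pos]
    ext y
    show Away.isLocalizationElem (mono_mem I ha) (mono_mem I hc) ∉ y.asIdeal.comap φ ↔
      frac (rho c) (rho_mem I hc) ∉ y.asIdeal
    rw [Ideal.mem_comap, hφ1 c hc (rho_mem I hc)]

/-- On the chart of `a`, the locus where `c` generates lies in the locus where `c / a` is invertible. -/
theorem chartOpen_le_basicOpen {X : Scheme.{u}} {𝓘 : X.IdealSheafData} {U : X.affineOpens} {a c : Γ(X, U.1)}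
    (ha : a ∈ 𝓘.ideal U) (hc : c ∈ 𝓘.ideal U) :
    chartOpen 𝓘 U c (chartMap 𝓘 U a) ≤ PrimeSpectrum.basicOpen (frac c hc : ChartAlg 𝓘 U a) := by
  intro z hz
  obtain ⟨hw, hs⟩ := stalk_generated hz
  obtain ⟨hw', hs'⟩ := stalk_generated ((chartOpen_chartMap ha).ge (trivial : z ∈ (⊤ : (Spec (CommRingCat.of (ChartAlg 𝓘 U a))).Opens)))
  rw [hs] at hs'
  let S := Spec (CommRingCat.of (ChartAlg 𝓘 U a))
  let γ : ChartAlg 𝓘 U a →+* S.presheaf.stalk z :=
    (S.presheaf.germ ⊤ z trivial).hom.comp (Scheme.ΓSpecIso (CommRingCat.of (ChartAlg 𝓘 U a))).inv.hom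
  have hg : ∀ y, gerA (chartMap 𝓘 U a) z hw y = γ (algebraMap Γ(X, U.1) _ y) := fun y => by
    rw [← gerA_eq (chartMap 𝓘 U a) y (le_preimage_chartMap 𝓘 U a) z trivial, appLE_chartMap]
    rfl
  rw [hg, hg, ← frac_mul (a := a) c hc, map_mul] at hs'
  have hnz : γ (algebraMap Γ(X, U.1) _ a) ∈ nonZeroDivisors (S.presheaf.stalk z) := by
    refine generator_mem_nonZeroDivisors (isEffCartier_chartMap 𝓘 U a ha) z ?_
    rw [hs, hg, ← frac_mul (a := a) c hc, map_mul, hs']
  have hu := isUnit_of_span_eq hnz (hs'.ge (Ideal.mem_span_singleton_self _))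
  have hmem : z ∈ S.basicOpen ((Scheme.ΓSpecIso (CommRingCat.of (ChartAlg 𝓘 U a))).inv.hom (frac c hc)) :=
    (S.mem_basicOpen (U := ⊤) _ z trivial).2 hu
  rw [basicOpen_eq_of_affine] at hmem
  exact hmem

theorem iSup_basicOpen : ⨆ x : I, Proj.basicOpen (Rees.deg (reesAlgebra I)) (mono I x.2) = ⊤ :=
  Proj.iSup_basicOpen_eq_top _ _ (irrelevant_le I)

theorem isEffCartier_str : BlowUp.IsEffCartierIdeal ((centre I).comap (str I)) := by
  refine BlowProdLib.isEffCartier_of_local _ fun y => ?_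
  obtain ⟨x, hx⟩ := TopologicalSpace.Opens.mem_iSup.1 ((iSup_basicOpen I).ge (trivial : y ∈ (⊤ : (Proj _).Opens)))
  obtain ⟨e, he, hr, hc, -⟩ := exists_chart I x.2
  rw [← hr] at hx
  obtain ⟨z, hz⟩ := hx
  refine ⟨_, e, he, z, hz, ?_⟩
  rw [← Scheme.IdealSheafData.comap_comp, hc]
  exact isEffCartier_chartMap _ _ _ (rho_mem I x.2)

theorem preimage_chartOpen_str {a : A} (ha : a ∈ I) :
    chartOpen (centre I) topU (rho a) (str I) = Proj.basicOpen _ (mono I ha) := by
  refine le_antisymm (fun y hy => ?_) ?_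
  · obtain ⟨x, hx⟩ := TopologicalSpace.Opens.mem_iSup.1 ((iSup_basicOpen I).ge (trivial : y ∈ (⊤ : (Proj _).Opens)))
    obtain ⟨e, he, hr, hc, hpre⟩ := exists_chart I x.2
    obtain ⟨z, rfl⟩ : y ∈ Set.range e := by
      rw [← hr] at hx
      exact hx
    have hz : z ∈ e ⁻¹ᵁ chartOpen (centre I) topU (rho a) (str I) := hy
    rw [preimage_chartOpen e (str I) (isEffCartier_str I)
      (by rw [hc]; exact isEffCartier_chartMap _ _ _ (rho_mem I x.2)) (rho_mem I ha), hc] at hz
    have := chartOpen_le_basicOpen (rho_mem I x.2) (rho_mem I ha) hz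
    rwa [← hpre a ha] at this
  · obtain ⟨e, he, hr, hc, -⟩ := exists_chart I ha
    rw [← hr]
    rintro _ ⟨z, rfl⟩
    show z ∈ e ⁻¹ᵁ chartOpen (centre I) topU (rho a) (str I)
    rw [preimage_chartOpen e (str I) (isEffCartier_str I)
      (by rw [hc]; exact isEffCartier_chartMap _ _ _ (rho_mem I ha)) (rho_mem I ha), hc,
      chartOpen_chartMap (rho_mem I ha)]
    trivial

theorem isBlowUp_str : BlowUp.IsBlowUp (str I) (centre I) := by
  obtain ⟨X', b, hb⟩ := BlowExistsLib.exists_isBlowUp (centre I)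
  obtain ⟨h, hh, -⟩ := hb.2 _ (str I) (isEffCartier_str I)
  have hiso : IsIso h := by
    refine (IsZariskiLocalAtTarget.iff_of_iSup_eq_top (P := MorphismProperty.isomorphisms Scheme.{u})
      (fun x : I => chartOpen (centre I) topU (rho (x : A)) b) (top_le_iff.1 fun y _ => ?_)).2 fun x => ?_
    · obtain ⟨_, ⟨c, hc, rfl⟩, hy⟩ := BlowExistsLib.exists_mem_chartOpen hb.1 (U := topU (A := A))
        ((rho (A := A)).toRingHom '' (I : Set A)) (ideal_topU I).symm y trivial
      exact TopologicalSpace.Opens.mem_iSup.2 ⟨⟨c, hc⟩, hy⟩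
    show IsIso (h ∣_ _)
    set D := chartOpen (centre I) topU (rho (x : A)) b
    obtain ⟨e, he, hr, hc, -⟩ := exists_chart I x.2
    have hpre : h ⁻¹ᵁ D = e.opensRange := by
      rw [preimage_chartOpen h b hb.1 (by rw [hh]; exact isEffCartier_str I) (rho_mem I x.2), hh,
        preimage_chartOpen_str I x.2, hr]
    have heq : e ≫ h = emb hb (rho_mem I x.2) := by
      refine (hb.2 _ (chartMap (centre I) topU (rho (x : A))) (isEffCartier_chartMap _ _ _ (rho_mem I x.2))).unique ?_
        (emb_comp hb _)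
      rw [Category.assoc, hh, hc]
    have hreq : Set.range e = Set.range (h ⁻¹ᵁ D).ι := by
      rw [Scheme.Opens.range_ι, hpre]
      rfl
    let i₁ := IsOpenImmersion.isoOfRangeEq e (h ⁻¹ᵁ D).ι hreq
    let i₂ := IsOpenImmersion.isoOfRangeEq (emb hb (rho_mem I x.2)) D.ι
      (by rw [Scheme.Opens.range_ι]; exact congrArg (fun V : X'.Opens => (V : Set X')) (opensRange_emb hb (rho_mem I x.2)))
    have hkey : h ∣_ D = i₁.inv ≫ i₂.hom := by
      rw [← cancel_mono D.ι, Category.assoc, IsOpenImmersion.isoOfRangeEq_hom_fac, morphismRestrict_ι,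
        Iso.eq_inv_comp, ← Category.assoc, IsOpenImmersion.isoOfRangeEq_hom_fac, heq]
    rw [hkey]
    infer_instance
  refine ⟨isEffCartier_str I, fun Y g hg => ?_⟩
  obtain ⟨m, hm, hu⟩ := hb.2 Y g hg
  refine ⟨m ≫ inv h, ?_, fun m' hm' => ?_⟩
  · show (m ≫ inv h) ≫ str I = g
    rw [← hh, Category.assoc, IsIso.inv_hom_id_assoc, hm]
  · rw [IsIso.eq_comp_inv]
    exact hu _ (show (m' ≫ h) ≫ b = g by rw [Category.assoc, hh]; exact hm')

end Groth.Agent.ReesProjLib
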